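import Cfsg.Agent.Lib.Characters.Counting
import Cfsg.Agent.Lib.Characters.FrobSchur
import Cfsg.Agent.Lib.Characters.LinearTwist
import Cfsg.Agent.Lib.Blocks.PrincipalSq
import Cfsg.Agent.Lib.Blocks.ClassCount
import Cfsg.Agent.Lib.Blk4.Modular

/-!
Real characters of even degree: a real element with centraliser of odd order forces one.
-/

set_option autoImplicit false
set_option linter.unusedSectionVars false

noncomputable section

namespace CfsgLib.RealEven

open Cfsg CfsgLib.Characters CfsgLib.FrobSchur CfsgLib.Blocks CfsgLib.PrincipalSq CfsgLib.LinearTwist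
open scoped ComplexConjugate Classical

universe u

variable {G : Type u} [Group G] [Fintype G]

/-- A square root inside a centraliser of odd order is a power of the square. -/
theorem sqrt_eq_pow {x s : G} (hx : Odd (Nat.card (Subgroup.centralizer ({x} : Set G))))
    (h : IsConj (s * s) x) :
    s = (s * s) ^ ((Nat.card (Subgroup.centralizer ({x} : Set G)) + 1) / 2) := by
  obtain ⟨k, hk⟩ := hx
  obtain ⟨g, hg⟩ := isConj_iff.1 h
  have hmem : g * s * g⁻¹ ∈ Subgroup.centralizer ({x} : Set G) := by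
    rw [Subgroup.mem_centralizer_singleton_iff, ← hg]
    group
  have hs : s ^ Nat.card (Subgroup.centralizer ({x} : Set G)) = 1 := by
    have := congrArg Subtype.val
      (pow_card_eq_one' (x := (⟨_, hmem⟩ : Subgroup.centralizer ({x} : Set G))))
    rw [Subgroup.coe_pow, Subgroup.coe_one, conj_pow] at this
    exact conj_eq_one_iff.1 this
  rw [← pow_two, ← pow_mul, hk, show 2 * ((2 * k + 1 + 1) / 2) = (2 * k + 1) + 1 by omega, pow_succ,
    ← hk, hs, one_mul]

/-- The number of elements whose square is conjugate to `x`. -/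
theorem card_sqrt_class {x : G} (hx : Odd (Nat.card (Subgroup.centralizer ({x} : Set G)))) :
    (Finset.univ.filter fun s : G => IsConj (s * s) x).card *
      Nat.card (Subgroup.centralizer ({x} : Set G)) = Nat.card G := by
  have hb : (Finset.univ.filter fun s : G => IsConj (s * s) x).card = (ClassCount.cls x).card := by
    refine Finset.card_bij (fun s _ => s * s) (fun s hs => ?_) (fun a ha b hb h => ?_)
      (fun u hu => ?_)
    · exact ClassCount.mem_cls.2 (Finset.mem_filter.1 hs).2.symm
    · rw [sqrt_eq_pow hx (Finset.mem_filter.1 ha).2, sqrt_eq_pow hx (Finset.mem_filter.1 hb).2]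
      exact congrArg (· ^ _) h
    · obtain ⟨g, hg⟩ := isConj_iff.1 (ClassCount.mem_cls.1 hu)
      obtain ⟨k, hk⟩ := hx
      have hmem : g⁻¹ * u * g⁻¹⁻¹ ∈ Subgroup.centralizer ({x} : Set G) := by
        rw [Subgroup.mem_centralizer_singleton_iff, ← hg]
        group
      have hu' : u ^ Nat.card (Subgroup.centralizer ({x} : Set G)) = 1 := by
        have := congrArg Subtype.val
          (pow_card_eq_one' (x := (⟨_, hmem⟩ : Subgroup.centralizer ({x} : Set G))))
        rw [Subgroup.coe_pow, Subgroup.coe_one, conj_pow] at this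
        exact conj_eq_one_iff.1 this
      have hsq : u ^ (k + 1) * u ^ (k + 1) = u := by
        rw [← pow_add, show k + 1 + (k + 1) = (2 * k + 1) + 1 by omega, pow_succ, ← hk, hu', one_mul]
      exact ⟨u ^ (k + 1), Finset.mem_filter.2 ⟨Finset.mem_univ _, by
        rw [hsq]; exact (ClassCount.mem_cls.1 hu).symm⟩, hsq⟩
  rw [hb]
  exact ClassCount.card_cls_mul_centralizer x

/-- The weighted column of an element with centraliser of odd order sums to one. -/
theorem sum_fsInd_mul {x : G} (hx : Odd (Nat.card (Subgroup.centralizer ({x} : Set G)))) :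
    ∑ χ : IrrCharacter G, fsInd (χ : G → ℂ) * conj ((χ : G → ℂ) x) = 1 := by
  have hG : (Nat.card G : ℂ) ≠ 0 := Nat.cast_ne_zero.2 Nat.card_pos.ne'
  calc ∑ χ : IrrCharacter G, fsInd (χ : G → ℂ) * conj ((χ : G → ℂ) x)
      = (Nat.card G : ℂ)⁻¹ * ∑ s : G, ∑ χ : IrrCharacter G,
          (χ : G → ℂ) (s * s) * conj ((χ : G → ℂ) x) := by
        rw [Finset.sum_comm, Finset.mul_sum]
        refine Finset.sum_congr rfl fun χ _ => ?_
        rw [fsInd_eq_sum, Finset.mul_sum, Finset.mul_sum, Finset.sum_mul]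
        exact Finset.sum_congr rfl fun s _ => by ring
    _ = (Nat.card G : ℂ)⁻¹ * ∑ s : G, if IsConj (s * s) x then
          (Nat.card (Subgroup.centralizer ({x} : Set G)) : ℂ) else 0 := by
        congr 1
        refine Finset.sum_congr rfl fun s _ => ?_
        rw [column_orth (s * s) x]
        split_ifs with h
        · obtain ⟨g, hg⟩ := isConj_iff.1 h
          rw [← hg]
          norm_cast
          exact Nat.card_congr ((MulAut.conj g).toEquiv.subtypeEquiv fun y => by
            rw [Subgroup.mem_centralizer_singleton_iff, Subgroup.mem_centralizer_singleton_iff]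
            show y * (s * s) = s * s * y ↔ g * y * g⁻¹ * (g * (s * s) * g⁻¹) = g * (s * s) * g⁻¹ * (g * y * g⁻¹)
            rw [show g * y * g⁻¹ * (g * (s * s) * g⁻¹) = g * (y * (s * s)) * g⁻¹ by group,
              show g * (s * s) * g⁻¹ * (g * y * g⁻¹) = g * (s * s * y) * g⁻¹ by group]
            exact ⟨fun e => by rw [e], fun e => mul_left_cancel (mul_right_cancel e)⟩)
        · rfl
    _ = (Nat.card G : ℂ)⁻¹ * (Nat.card G : ℂ) := by
        rw [← Finset.sum_filter, Finset.sum_const, nsmul_eq_mul, ← Nat.cast_mul, card_sqrt_class hx]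
    _ = 1 := inv_mul_cancel₀ hG

/-- The character `g ↦ χ(g⁻¹)`. -/
def bar (χ : IrrCharacter G) : IrrCharacter G := CfsgLib.BrauerPerm.conjIrr χ

/-- A fixed-point free involution of a finite set kills any invariant sum twice. -/
theorem sum_of_involution {ι : Type*} (s : Finset ι) (f : ι → ι) (hs : ∀ a ∈ s, f a ∈ s)
    (hf : ∀ a ∈ s, f (f a) = a) (hne : ∀ a ∈ s, f a ≠ a) (v : ι → ℂ)
    (hv : ∀ a ∈ s, v (f a) = v a) :
    ∃ t : Finset ι, t ⊆ s ∧ ∑ a ∈ s, v a = 2 * ∑ a ∈ t, v a := by
  induction s using Finset.strongInduction with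
  | H s ih =>
    rcases s.eq_empty_or_nonempty with rfl | ⟨a, ha⟩
    · exact ⟨∅, by simp, by simp⟩
    · have hfa := hs a ha
      have hnd : a ∉ ({f a} : Finset ι) := by simpa using (hne a ha).symm
      have hsub : {a, f a} ⊆ s := by
        intro b hb
        rcases Finset.mem_insert.1 hb with rfl | hb
        · exact ha
        · rw [Finset.mem_singleton.1 hb]; exact hfa
      obtain ⟨t, ht, hsum⟩ := ih (s \ {a, f a}) (Finset.sdiff_ssubset hsub ⟨a, by simp⟩)
        (fun b hb => by
          obtain ⟨hb1, hb2⟩ := Finset.mem_sdiff.1 hb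
          refine Finset.mem_sdiff.2 ⟨hs b hb1, fun h => hb2 ?_⟩
          rcases Finset.mem_insert.1 h with h | h
          · rw [← hf b hb1, h]; simp
          · rw [← hf b hb1, Finset.mem_singleton.1 h, hf a ha]; simp)
        (fun b hb => hf b (Finset.mem_sdiff.1 hb).1) (fun b hb => hne b (Finset.mem_sdiff.1 hb).1)
        (fun b hb => hv b (Finset.mem_sdiff.1 hb).1)
      refine ⟨insert a t, Finset.insert_subset ha (ht.trans Finset.sdiff_subset), ?_⟩
      have hat : a ∉ t := fun h => by simpa using (Finset.mem_sdiff.1 (ht h)).2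
      rw [Finset.sum_insert hat, ← Finset.sum_sdiff hsub, hsum,
        Finset.sum_pair (Ne.symm (hne a ha)), hv a ha]
      ring

/-- A real element with centraliser of odd order gives a real character of even degree. -/
theorem exists_even_real {x : G} (hG : Even (Nat.card G)) (hreal : IsConj x x⁻¹)
    (hx : Odd (Nat.card (Subgroup.centralizer ({x} : Set G)))) :
    ∃ χ : IrrCharacter G, Even (charDegree (χ : G → ℂ)) ∧
      ∀ g : G, (χ : G → ℂ) g⁻¹ = (χ : G → ℂ) g := by
  obtain ⟨M, hM⟩ := CfsgLib.Blk4.Modular.exists_isPModular 2 Nat.prime_two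
  by_contra hno
  simp only [not_exists, not_and, not_forall] at hno
  have hx1 : x ≠ 1 := by
    rintro rfl
    refine (Nat.not_odd_iff_even.2 hG) ?_
    rwa [show Subgroup.centralizer ({(1 : G)} : Set G) = ⊤ from eq_top_iff.2 fun y _ =>
      Subgroup.mem_centralizer_singleton_iff.2 (by rw [mul_one, one_mul]), Subgroup.card_top] at hx
  have hconj : ∀ χ : IrrCharacter G, conj ((χ : G → ℂ) x) = (χ : G → ℂ) x := fun χ => by
    rw [← irr_apply_inv]
    exact classFunction_eq_of_isConj (irr_isClassFunction χ) hreal.symm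
  set R := Finset.univ.filter fun χ : IrrCharacter G => ∀ g : G, ((χ : G → ℂ) g).im = 0 with hR
  set O := Finset.univ.filter fun χ : IrrCharacter G => Odd (charDegree (χ : G → ℂ)) with hO
  have hRO : R ⊆ O := by
    intro χ hχ
    refine Finset.mem_filter.2 ⟨Finset.mem_univ _, ?_⟩
    by_contra h
    obtain ⟨g, hg⟩ := hno χ (Nat.not_odd_iff_even.1 h)
    exact hg (by rw [irr_apply_inv]; exact Complex.conj_eq_iff_im.2 ((Finset.mem_filter.1 hχ).2 g))
  have hint : ∀ χ : IrrCharacter G, MemLocalRing M ((χ : G → ℂ) x) := fun χ =>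
    char_mem_lRing hM (irr_isCharacter χ) x
  have h2 : MemLocalIdeal M (2 : ℂ) := by simpa using memLocalIdeal_p hM
  -- the Frobenius–Schur count
  have h1 : MemLocalIdeal M (∑ χ ∈ R, (χ : G → ℂ) x - 1) := by
    rw [← sum_fsInd_mul hx, ← Finset.sum_filter_add_sum_filter_not Finset.univ
      (fun χ : IrrCharacter G => ∀ g : G, ((χ : G → ℂ) g).im = 0), ← hR, Finset.sum_eq_zero
      (s := Finset.univ.filter fun χ : IrrCharacter G => ¬ ∀ g : G, ((χ : G → ℂ) g).im = 0)
      (fun χ hχ => by rw [(fsInd_eq_zero_iff χ.2).2 (Finset.mem_filter.1 hχ).2, zero_mul]),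
      add_zero, ← Finset.sum_sub_distrib]
    refine MemLocalIdeal.sum hM _ fun χ hχ => ?_
    rw [hconj]
    rcases fsInd_cases χ.2 with ⟨-, h | h⟩ | ⟨h, -⟩
    · rw [h, one_mul, sub_self]; exact memLocalIdeal_zero hM
    · rw [h, show (χ : G → ℂ) x - -1 * (χ : G → ℂ) x = 2 * (χ : G → ℂ) x by ring]
      exact MemLocalIdeal.mul_right hM h2 (hint χ)
    · exact absurd (Finset.mem_filter.1 hχ).2 h
  -- the regular character
  have h3 : MemLocalIdeal M (∑ χ ∈ O, (χ : G → ℂ) x) := by
    have h0 : ∑ χ : IrrCharacter G, (χ : G → ℂ) 1 * (χ : G → ℂ) x = 0 := by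
      rw [sum_degree_mul_irr, if_neg hx1]
    rw [← neg_neg (∑ χ ∈ O, (χ : G → ℂ) x)]
    refine MemLocalIdeal.neg hM ?_
    rw [← zero_sub, ← h0, ← Finset.sum_filter_add_sum_filter_not Finset.univ
      (fun χ : IrrCharacter G => Odd (charDegree (χ : G → ℂ))), ← hO, add_sub_right_comm,
      ← Finset.sum_sub_distrib]
    refine MemLocalIdeal.add hM (MemLocalIdeal.sum hM _ fun χ hχ => ?_)
      (MemLocalIdeal.sum hM _ fun χ hχ => ?_)
    · obtain ⟨m, hm⟩ := (Finset.mem_filter.1 hχ).2
      rw [apply_one_eq_charDegree (irr_isCharacter χ), hm, show ((2 * m + 1 : ℕ) : ℂ) * (χ : G → ℂ) x -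
        (χ : G → ℂ) x = 2 * ((m : ℂ) * (χ : G → ℂ) x) by push_cast; ring]
      exact MemLocalIdeal.mul_right hM h2 ((lRing hM).mul_mem (natCast_mem _ m) (hint χ))
    · obtain ⟨m, hm⟩ := Nat.not_odd_iff_even.1 (Finset.mem_filter.1 hχ).2
      rw [apply_one_eq_charDegree (irr_isCharacter χ), hm, show ((m + m : ℕ) : ℂ) * (χ : G → ℂ) x =
        2 * ((m : ℂ) * (χ : G → ℂ) x) by push_cast; ring]
      exact MemLocalIdeal.mul_right hM h2 ((lRing hM).mul_mem (natCast_mem _ m) (hint χ))
  -- the characters of odd degree that are not real pair off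
  have h4 : MemLocalIdeal M (∑ χ ∈ O \ R, (χ : G → ℂ) x) := by
    obtain ⟨t, -, hsum⟩ := sum_of_involution (O \ R) bar
      (fun χ hχ => by
        obtain ⟨h, h'⟩ := Finset.mem_sdiff.1 hχ
        refine Finset.mem_sdiff.2 ⟨Finset.mem_filter.2 ⟨Finset.mem_univ _, ?_⟩, fun hb => h' ?_⟩
        · have : charDegree (bar χ : G → ℂ) = charDegree (χ : G → ℂ) := by
            simp [bar, charDegree]
          rw [this]; exact (Finset.mem_filter.1 h).2
        · refine Finset.mem_filter.2 ⟨Finset.mem_univ _, fun g => ?_⟩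
          simpa [bar] using (Finset.mem_filter.1 hb).2 g)
      (fun χ _ => Subtype.ext (funext fun g => by simp [bar]))
      (fun χ hχ e => (Finset.mem_sdiff.1 hχ).2 (Finset.mem_filter.2
        ⟨Finset.mem_univ _, (CfsgLib.BrauerPerm.conjIrr_eq_self_iff χ).1 e⟩))
      (fun χ => (χ : G → ℂ) x) (fun χ _ => by simpa [bar] using hconj χ)
    rw [hsum]
    exact MemLocalIdeal.mul_right hM h2 ((lRing hM).sum_mem fun χ _ => hint χ)
  rw [← Finset.sum_sdiff hRO] at h3
  refine not_memLocalIdeal_one hM ?_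
  have h5 := MemLocalIdeal.sub hM (MemLocalIdeal.sub hM h3 h4) h1
  rwa [show ∀ a b : ℂ, a + b - a - (b - 1) = 1 by intros; ring] at h5

/-- Closure of the principal block under `g ↦ g⁻¹`. -/
theorem bar_mem_principalBlock {M : Ideal AlgInt} {χ : IrrCharacter G}
    (h : χ ∈ principalBlock M G) : bar χ ∈ principalBlock M G := by
  intro g
  have hc : Subgroup.centralizer ({g⁻¹} : Set G) = Subgroup.centralizer ({g} : Set G) := by
    ext y
    rw [Subgroup.mem_centralizer_singleton_iff, Subgroup.mem_centralizer_singleton_iff]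
    exact (Commute.inv_right_iff (a := y) (b := g))
  have := h g⁻¹
  simp only [centralChar, hc] at this
  simpa [centralChar, bar, ← irr_apply_inv] using this

/-- The principal `2`-block of a group of even order contains a non-trivial real character. -/
theorem exists_real_principal (hG : Even (Nat.card G)) {M : Ideal AlgInt} (hM : IsPModular 2 M) :
    ∃ χ ∈ principalBlock M G, (χ : G → ℂ) ≠ (fun _ => 1) ∧
      ∀ g : G, (χ : G → ℂ) g⁻¹ = (χ : G → ℂ) g := by
  by_contra hno
  simp only [not_exists, not_and, not_forall] at hno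
  haveI : Fact (Nat.Prime 2) := ⟨Nat.prime_two⟩
  have hmem : principalIrr G ∈ principalBlock M G := fun g => by
    simpa [principalIrr] using memLocalIdeal_zero hM
  have hB : IsPBlock M (principalBlock M G) := ⟨principalIrr G, rfl⟩
  have h := dvd_sum_sq hM (even_iff_two_dvd.1 hG) hB
  set P := Finset.univ.filter (· ∈ principalBlock M G) with hP
  have hp : principalIrr G ∈ P := Finset.mem_filter.2 ⟨Finset.mem_univ _, hmem⟩
  obtain ⟨t, -, hsum⟩ := sum_of_involution (P.erase (principalIrr G)) bar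
    (fun χ hχ => by
      obtain ⟨hne, hχ⟩ := Finset.mem_erase.1 hχ
      refine Finset.mem_erase.2 ⟨fun e => hne ?_, Finset.mem_filter.2
        ⟨Finset.mem_univ _, bar_mem_principalBlock (Finset.mem_filter.1 hχ).2⟩⟩
      refine Subtype.ext (funext fun g => ?_)
      have := congrArg (fun ζ : IrrCharacter G => (ζ : G → ℂ) g⁻¹) e
      simpa [bar, principalIrr, irr_apply_inv] using this)
    (fun χ _ => Subtype.ext (funext fun g => by simp [bar]))
    (fun χ hχ e => by
      obtain ⟨hne, hχ⟩ := Finset.mem_erase.1 hχ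
      obtain ⟨g, hg⟩ := hno χ (Finset.mem_filter.1 hχ).2
        (fun e' => hne (Subtype.ext (by rw [e']; rfl)))
      refine hg ?_
      rw [irr_apply_inv]
      exact Complex.conj_eq_iff_im.2 ((CfsgLib.BrauerPerm.conjIrr_eq_self_iff χ).1 e g))
    (fun χ => (charDegree (χ : G → ℂ) : ℂ) ^ 2) (fun χ _ => by simp [bar, charDegree])
  obtain ⟨m, hm⟩ := h
  rw [← Finset.add_sum_erase _ _ hp] at hm
  have h1 : charDegree (principalIrr G : G → ℂ) = 1 := by simp [charDegree, principalIrr]
  have h2 := congrArg (fun n : ℕ => (n : ℂ)) hm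
  push_cast [h1] at h2
  rw [hsum, show ∑ a ∈ t, (charDegree (a : G → ℂ) : ℂ) ^ 2 =
    ((∑ a ∈ t, charDegree (a : G → ℂ) ^ 2 : ℕ) : ℂ) by push_cast; rfl] at h2
  have h3 : 1 + 2 * (∑ a ∈ t, charDegree (a : G → ℂ) ^ 2) = 2 * m := by
    exact_mod_cast h2
  omega

end CfsgLib.RealEven
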