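import Cfsg.Agent.Lib.RealEven.Main
import Cfsg.Agent.Lib.Walter.CoreGoal

/-!
The centraliser form of Walter's rank three case, from core-freeness, the absence of field automorphisms
and the order theorem with the field.
-/

set_option autoImplicit false
set_option linter.style.haveILetI false

namespace CfsgLib.RealEven

open Subgroup CfsgLib.Walter

universe u

/-- The order theorem, keeping the field of the centraliser. -/
def OrderField : Prop :=
  ∀ (G : Type u) [Group G] [Finite G] [IsSimpleGroup G],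
    (∀ P : Sylow 2 G, ∀ a b : P, a * b = b * a) →
    ∀ (F : Type) [Field F] [Fintype F], 3 ≤ Fintype.card F → ∀ t : G, orderOf t = 2 →
      Nonempty (centralizer ({t} : Set G) ≃*
        Multiplicative (ZMod 2) × Matrix.ProjectiveSpecialLinearGroup (Fin 2) F) →
      (∃ m : ℕ, 1 ≤ m ∧ Fintype.card F = 3 ^ (2 * m + 1) ∧
        Nat.card G = (3 ^ (2 * m + 1)) ^ 3 * ((3 ^ (2 * m + 1)) ^ 3 + 1) * (3 ^ (2 * m + 1) - 1)) ∨
      ((Fintype.card F = 4 ∨ Fintype.card F = 5) ∧ Cfsg.IsJ1 G)

theorem centralGoal_of (hD : CoreFree.{u}) (hF : FieldFree.{u}) (hO : OrderField.{u}) :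
    CentralGoal.{u} := by
  intro G _ _ E
  haveI := E.simple
  haveI : Fact (Nat.Prime 2) := ⟨Nat.prime_two⟩
  obtain ⟨F, iF, iFt, hq, hC⟩ := hF G E E.local_structure
    (hD G E E.local_structure (E.isCoatom_all (smallCore hD G)))
  have hab : ∀ P : Sylow 2 G, ∀ a b : P, a * b = b * a := by
    intro P a b
    let e : ↥(P : Subgroup G) ≃* ↥(E.S : Subgroup G) := Sylow.equiv P E.S
    exact e.injective (by
      rw [map_mul, map_mul]
      exact Subtype.ext (E.comm (e a).2 (e b).2))
  refine ⟨F, iF, iFt, hC, ?_⟩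
  rcases hO G hab F hq E.t E.orderOf_t hC with ⟨m, hm, hc, hn⟩ | ⟨hc, hJ⟩
  · refine Or.inr ⟨?_, by rw [hc]; exact hn⟩
    rw [hc, Nat.pow_mod]
    norm_num [pow_succ, pow_mul, Nat.mul_mod, Nat.pow_mod]
  · exact Or.inl ⟨hc, hJ.2⟩

end CfsgLib.RealEven
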