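import Cfsg.Agent.Lib.RealEven.Models
import Cfsg.Agent.Lib.ClassicalGroups.SmallIso

/-!
A group with one class of involutions and an involution centraliser `2 × PSL₂(q)` of Ree or Janko order
has a real element with centraliser of odd order.
-/

set_option autoImplicit false
set_option linter.unusedSectionVars false

noncomputable section

namespace CfsgLib.RealEven

open Cfsg CfsgLib.PSL2
open scoped Classical

/-- The elements of square one. -/
def sqOne (A : Type*) [Group A] : ℕ := Nat.card {s : A // s * s = 1}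

theorem sqOne_congr {A B : Type*} [Group A] [Group B] (e : A ≃* B) : sqOne A = sqOne B :=
  Nat.card_congr (e.toEquiv.subtypeEquiv fun s => by
    show s * s = 1 ↔ e s * e s = 1
    rw [← map_mul, MulEquiv.map_eq_one_iff])

theorem sqOne_two_prod (A : Type*) [Group A] :
    sqOne (Multiplicative (ZMod 2) × A) = 2 * sqOne A := by
  have h : ∀ c : Multiplicative (ZMod 2), c * c = 1 := by decide
  rw [sqOne, sqOne, Nat.card_congr (Equiv.ofBijective
    (fun p : Multiplicative (ZMod 2) × {s : A // s * s = 1} =>
      (⟨(p.1, p.2.1), Prod.ext (h p.1) p.2.2⟩ : {s : Multiplicative (ZMod 2) × A // s * s = 1}))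
    ⟨fun p q e => Prod.ext (congrArg (fun s => s.1.1) e)
      (Subtype.ext (congrArg (fun s => s.1.2) e)),
     fun s => ⟨(s.1.1, ⟨s.1.2, congrArg Prod.snd s.2⟩), rfl⟩⟩).symm, Nat.card_prod,
    Nat.card_eq_fintype_card]
  rfl

theorem sqOne_alt_five : sqOne (alternatingGroup (Fin 5)) = 16 := by
  rw [sqOne, Nat.card_eq_fintype_card]
  decide +kernel

universe u

variable {G : Type u} [Group G] [Fintype G]

/-- The involutions commuting with an involution, counted in its centraliser. -/
theorem card_invol_add_one (t : G) :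
    (invol t).card + 1 = sqOne ↥(Subgroup.centralizer ({t} : Set G)) := by
  have h : insert (1 : G) (invol t) = Finset.univ.filter fun b : G => b * b = 1 ∧ Commute b t := by
    ext b
    simp only [invol, Finset.mem_insert, Finset.mem_filter, Finset.mem_univ, true_and]
    rw [orderOf_eq_prime_iff (p := 2), pow_two]
    constructor
    · rintro (rfl | ⟨⟨h, -⟩, hc⟩)
      · exact ⟨one_mul 1, Commute.one_left t⟩
      · exact ⟨h, hc⟩
    · rintro ⟨h, hc⟩
      by_cases hb : b = 1
      · exact Or.inl hb
      · exact Or.inr ⟨⟨h, hb⟩, hc⟩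
  have h1 : (1 : G) ∉ invol t := by simp [invol]
  rw [← Finset.card_insert_of_notMem h1, h, ← Fintype.card_subtype, ← Nat.card_eq_fintype_card]
  refine Nat.card_congr
    { toFun := fun b => ⟨⟨b.1, Subgroup.mem_centralizer_singleton_iff.2 b.2.2⟩, Subtype.ext b.2.1⟩
      invFun := fun b => ⟨b.1.1, congrArg Subtype.val b.2, Subgroup.mem_centralizer_singleton_iff.1 b.1.2⟩
      left_inv := fun _ => rfl
      right_inv := fun _ => rfl }

/-- Ree or Janko order with centraliser `2 × PSL₂(q)`. -/
theorem real_odd_of_centralizer {t : G} (ht : orderOf t = 2)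
    (hone : ∀ u : G, orderOf u = 2 → IsConj t u) {F : Type*} [Field F] [Fintype F]
    (e : ↥(Subgroup.centralizer ({t} : Set G)) ≃*
      Multiplicative (ZMod 2) × Matrix.ProjectiveSpecialLinearGroup (Fin 2) F)
    (hq : ((Fintype.card F = 4 ∨ Fintype.card F = 5) ∧ Nat.card G = 175560) ∨
      (Fintype.card F % 4 = 3 ∧ Nat.card G =
        Fintype.card F ^ 3 * (Fintype.card F ^ 3 + 1) * (Fintype.card F - 1))) :
    ∃ x : G, IsConj x x⁻¹ ∧ Odd (Nat.card (Subgroup.centralizer ({x} : Set G))) := by
  refine exists_real_odd ht hone ?_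
  have hI := card_invol_add_one t
  rw [sqOne_congr e, sqOne_two_prod] at hI
  have hC : Nat.card ↥(Subgroup.centralizer ({t} : Set G)) =
      2 * Nat.card (Matrix.ProjectiveSpecialLinearGroup (Fin 2) F) := by
    rw [Nat.card_congr e.toEquiv, Nat.card_prod]
    congr 1
    rw [Nat.card_eq_fintype_card]
    rfl
  have hmul := (Subgroup.centralizer ({t} : Set G)).card_mul_index
  rw [hC] at hmul
  generalize (Subgroup.centralizer ({t} : Set G)).index = J at hmul ⊢
  generalize (invol t).card = I at hI ⊢
  rcases hq with ⟨hq, hG⟩ | ⟨hq, hG⟩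
  · obtain ⟨f⟩ : Nonempty (Matrix.ProjectiveSpecialLinearGroup (Fin 2) F ≃* alternatingGroup (Fin 5)) :=
      hq.elim (fun h => CfsgLib.ClassicalGroups.psl_two_four_alternating h)
        (fun h => CfsgLib.ClassicalGroups.psl_two_five_alternating h)
    rw [sqOne_congr f, sqOne_alt_five] at hI
    rw [hG, Nat.card_congr f.toEquiv, nat_card_alternatingGroup, Nat.card_fin] at hmul
    norm_num [Nat.factorial] at hmul hI
    nlinarith
  · have hodd : Odd (Fintype.card F) := Nat.odd_iff.2 (by omega)
    haveI : Fact (Nat.Prime 2) := ⟨Nat.prime_two⟩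
    letI := Fintype.ofFinite (Matrix.ProjectiveSpecialLinearGroup (Fin 2) F)
    have hP := card_psl (F := F)
    rw [gcd_eq_two hodd] at hP
    obtain ⟨m, hm⟩ : ∃ m, Fintype.card F = 4 * m + 3 := ⟨Fintype.card F / 4, by omega⟩
    obtain ⟨i, hi⟩ := exists_prime_orderOf_dvd_card'
      (G := Matrix.ProjectiveSpecialLinearGroup (Fin 2) F) 2 (by
        rw [hm, show 4 * m + 3 - 1 = 2 * (2 * m + 1) by omega,
          show (4 * m + 3 + 1) * ((4 * m + 3) * (2 * (2 * m + 1))) =
            2 * (2 * (2 * ((m + 1) * ((4 * m + 3) * (2 * m + 1))))) by ring] at hP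
        exact ⟨2 * ((m + 1) * ((4 * m + 3) * (2 * m + 1))), Nat.eq_of_mul_eq_mul_left two_pos hP⟩)
    have hCi := card_centralizer_involution hodd hi
    rw [if_neg (by omega)] at hCi
    have hmi := (Subgroup.centralizer ({i} : Set (Matrix.ProjectiveSpecialLinearGroup (Fin 2) F))).card_mul_index
    rw [hCi] at hmi
    have hsq : sqOne (Matrix.ProjectiveSpecialLinearGroup (Fin 2) F) =
        (Subgroup.centralizer ({i} : Set (Matrix.ProjectiveSpecialLinearGroup (Fin 2) F))).index + 1 := by
      rw [← ClassCount.card_cls, sqOne, Nat.card_eq_fintype_card, Fintype.card_subtype,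
        ← Finset.card_insert_of_notMem (s := ClassCount.cls i) (a := 1) (by
          intro h
          rw [ClassCount.mem_cls, isConj_one_left] at h
          rw [h, orderOf_one] at hi
          omega)]
      congr 1
      ext b
      simp only [Finset.mem_filter, Finset.mem_univ, true_and, Finset.mem_insert, ClassCount.mem_cls]
      constructor
      · intro hb
        by_cases hb1 : b = 1
        · exact Or.inl hb1
        · exact Or.inr (isConj_of_orderOf_two (two_ne_zero_of_odd hodd) hi
            (orderOf_eq_prime (by rw [pow_two, hb]) hb1))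
      · rintro (rfl | hb)
        · exact one_mul 1
        · obtain ⟨g, rfl⟩ := isConj_iff.1 hb
          rw [show g * i * g⁻¹ * (g * i * g⁻¹) = g * (i * i) * g⁻¹ by group,
            show i * i = 1 by
              have h2 := pow_orderOf_eq_one i
              rwa [hi, pow_two] at h2]
          group
    rw [hsq] at hI
    generalize Nat.card (Matrix.ProjectiveSpecialLinearGroup (Fin 2) F) = N at hP hmi hmul
    generalize (Subgroup.centralizer ({i} : Set (Matrix.ProjectiveSpecialLinearGroup (Fin 2) F))).index = K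
      at hmi hI
    rw [hG, hm, show 4 * m + 3 - 1 = 4 * m + 2 by omega] at hmul
    rw [hm, show 4 * m + 3 - 1 = 4 * m + 2 by omega] at hP
    rw [hm] at hmi
    set Q := 4 * m + 3 with hQ
    have hK : 2 * K = Q * (4 * m + 2) := by
      refine Nat.eq_of_mul_eq_mul_left (show 0 < Q + 1 by omega) ?_
      calc (Q + 1) * (2 * K) = 2 * ((Q + 1) * K) := by ring
        _ = 2 * N := by rw [hmi]
        _ = _ := hP
    have hI' : I = Q * (4 * m + 2) + 1 := by omega
    have hJ : J * (Q + 1) = Q ^ 2 * (Q ^ 3 + 1) := by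
      refine Nat.eq_of_mul_eq_mul_left (show 0 < Q * (4 * m + 2) by positivity) ?_
      calc Q * (4 * m + 2) * (J * (Q + 1)) = (Q + 1) * (Q * (4 * m + 2)) * J := by ring
        _ = 2 * N * J := by rw [hP]
        _ = Q ^ 3 * (Q ^ 3 + 1) * (4 * m + 2) := hmul
        _ = _ := by ring
    have hJ2 : J = Q ^ 2 * (Q * (4 * m + 2) + 1) := by
      refine Nat.eq_of_mul_eq_mul_right (show 0 < Q + 1 by omega) (hJ.trans ?_)
      rw [hQ]; ring
    rw [hI', hJ2, pow_two (Q * (4 * m + 2) + 1)]
    refine Nat.mul_lt_mul_of_pos_right ?_ (by omega)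
    rw [hQ]
    nlinarith

end CfsgLib.RealEven
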