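import Cfsg.Agent.Lib.RealEven.Basic

/-!
Existence of a real element with centraliser of odd order, and the Galois map of an elementary
Sylow `2`-subgroup.
-/

set_option autoImplicit false
set_option linter.unusedSectionVars false

noncomputable section

namespace CfsgLib.RealEven

open Cfsg
open scoped Classical

universe u

variable {G : Type u} [Group G] [Fintype G]

/-- If no element of a Sylow `2`-subgroup has order four then the Galois map is inversion. -/
theorem pow_eq_inv (S : Sylow 2 G) (hsq : ∀ s ∈ (S : Subgroup G), s * s = 1) {k : ℕ}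
    (hk₁ : ∀ g : G, (∃ j : ℕ, orderOf g = 2 ^ j) → g ^ k = g)
    (hk₂ : ∀ g : G, Odd (orderOf g) → g ^ k = g⁻¹) (g : G) : g ^ k = g⁻¹ := by
  rcases Nat.even_or_odd (orderOf g) with he | ho
  swap
  · exact hk₂ g ho
  obtain ⟨m, hm⟩ := he
  have hm2 : orderOf g = 2 * m := by omega
  have hm0 : 0 < m := by have := orderOf_pos g; omega
  have hu : orderOf (g ^ m) = 2 := by
    rw [orderOf_pow_of_dvd hm0.ne' ⟨2, by rw [hm2, mul_comm]⟩, hm2, Nat.mul_div_left _ hm0]
  have hodd : Odd m := by
    by_contra hev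
    obtain ⟨l, hl⟩ := Nat.not_odd_iff_even.1 hev
    have h4 : orderOf (g ^ l) = 4 := by
      rw [orderOf_pow_of_dvd (by omega) ⟨4, by omega⟩, hm2, show 2 * m = 4 * l by omega,
        Nat.mul_div_left _ (by omega : 0 < l)]
    have hP : IsPGroup 2 (Subgroup.zpowers (g ^ l)) :=
      IsPGroup.of_card (n := 2) (by rw [Nat.card_zpowers, h4]; norm_num)
    obtain ⟨P, hP'⟩ := hP.exists_le_sylow
    obtain ⟨c, hc⟩ := MulAction.exists_smul_eq G P S
    have hmem : c * g ^ l * c⁻¹ ∈ (S : Subgroup G) := by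
      rw [← hc, Sylow.coe_subgroup_smul]
      exact Subgroup.smul_mem_pointwise_smul _ (MulAut.conj c) _ (hP' (Subgroup.mem_zpowers _))
    have h1 := hsq _ hmem
    rw [show c * g ^ l * c⁻¹ * (c * g ^ l * c⁻¹) = c * (g ^ l * g ^ l) * c⁻¹ by group,
      conj_eq_one_iff, ← pow_two] at h1
    have h2 := Nat.le_of_dvd two_pos (orderOf_dvd_of_pow_eq_one h1)
    omega
  have h1 := hk₁ _ ⟨1, by rw [hu, pow_one]⟩
  have hs : orderOf (g ^ 2) = m := by
    rw [orderOf_pow_of_dvd two_ne_zero ⟨m, hm2⟩, hm2, Nat.mul_div_cancel_left _ two_pos]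
  have h2 := hk₂ (g ^ 2) (hs.symm ▸ hodd)
  refine eq_inv_of_mul_eq_one_left ?_
  rw [← pow_succ, ← orderOf_dvd_iff_pow_eq_one, hm2]
  refine Nat.Coprime.mul_dvd_of_dvd_of_dvd (Nat.coprime_two_left.2 hodd) ?_ ?_
  · have hk : k ≠ 0 := fun e => by rw [e, pow_zero] at h1; rw [← h1, orderOf_one] at hu; omega
    have h3 : (g ^ m) ^ (k - 1) = 1 := mul_right_cancel (b := g ^ m) (by
      rw [← pow_succ, show k - 1 + 1 = k by omega, h1, one_mul])
    have h4 := orderOf_dvd_of_pow_eq_one h3
    rw [hu] at h4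
    omega
  · have h3 : (g ^ 2) ^ (k + 1) = 1 := by rw [pow_succ, h2, inv_mul_cancel]
    have h4 := orderOf_dvd_of_pow_eq_one h3
    rwa [hs] at h4

/-- A group of even order has an odd number of involutions. -/
theorem odd_card_involutions {A : Type*} [Group A] [Fintype A] (hA : Even (Nat.card A)) :
    Odd (Finset.univ.filter fun s : A => orderOf s = 2).card := by
  have hrest := sum_of_involution (Finset.univ.filter fun s : A => s⁻¹ ≠ s) (·⁻¹)
    (fun a ha => by
      refine Finset.mem_filter.2 ⟨Finset.mem_univ _, fun e => (Finset.mem_filter.1 ha).2 ?_⟩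
      rw [inv_inv] at e
      exact e.symm)
    (fun a _ => inv_inv a) (fun a ha => (Finset.mem_filter.1 ha).2) (fun _ => (1 : ℂ)) (fun _ _ => rfl)
  obtain ⟨t, -, ht⟩ := hrest
  rw [Finset.sum_const, Finset.sum_const, nsmul_eq_mul, nsmul_eq_mul, mul_one, mul_one] at ht
  have ht' : (Finset.univ.filter fun s : A => s⁻¹ ≠ s).card = 2 * t.card := by exact_mod_cast ht
  have hsplit := Finset.card_filter_add_card_filter_not
    (s := (Finset.univ : Finset A)) (fun s : A => s⁻¹ ≠ s)
  have hfix : (Finset.univ.filter fun s : A => ¬ s⁻¹ ≠ s) =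
      insert 1 (Finset.univ.filter fun s : A => orderOf s = 2) := by
    ext s
    simp only [Finset.mem_filter, Finset.mem_univ, true_and, Finset.mem_insert, not_not,
      inv_eq_iff_mul_eq_one]
    rw [orderOf_eq_prime_iff (p := 2), pow_two]
    constructor
    · intro h
      by_cases hs : s = 1
      · exact Or.inl hs
      · exact Or.inr ⟨h, hs⟩
    · rintro (rfl | ⟨h, -⟩)
      · simp
      · exact h
  rw [hfix, Finset.card_insert_of_notMem (by simp), ht', Finset.card_univ,
    ← Nat.card_eq_fintype_card] at hsplit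
  obtain ⟨a, ha⟩ := hA
  exact ⟨a - t.card - 1, by omega⟩

/-- The involutions commuting with `u`. -/
def invol (u : G) : Finset G := Finset.univ.filter fun b => orderOf b = 2 ∧ Commute b u

theorem card_invol_conj {u t : G} (h : IsConj t u) : (invol u).card = (invol t).card := by
  obtain ⟨g, rfl⟩ := isConj_iff.1 h
  refine (Finset.card_equiv (MulAut.conj g).toEquiv ?_).symm
  intro x
  simp only [invol, Finset.mem_filter, Finset.mem_univ, true_and]
  show _ ↔ orderOf (MulAut.conj g x) = 2 ∧ Commute (g * x * g⁻¹) (g * t * g⁻¹)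
  rw [MulEquiv.orderOf_eq]
  exact and_congr_right fun _ =>
    ⟨fun hc => hc.map (MulAut.conj g).toMonoidHom, fun hc =>
      Commute.of_map (f := (MulAut.conj g).toMonoidHom) (MulAut.conj g).injective hc⟩

/-- Two conjugate involutions commute with a common one when no real element has odd centraliser. -/
theorem exists_common {t b : G} (ht : orderOf t = 2) (hb : orderOf b = 2)
    (hno : ∀ x : G, IsConj x x⁻¹ → Even (Nat.card (Subgroup.centralizer ({x} : Set G)))) :
    ∃ u : G, orderOf u = 2 ∧ Commute u t ∧ Commute u b := by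
  have ht2 : t * t = 1 := by rw [← pow_two, ← ht, pow_orderOf_eq_one]
  have hb2 : b * b = 1 := by rw [← pow_two, ← hb, pow_orderOf_eq_one]
  have hti : t⁻¹ = t := inv_eq_of_mul_eq_one_right ht2
  have hbi : b⁻¹ = b := inv_eq_of_mul_eq_one_right hb2
  have hbt : b = t * (t * b) := by rw [← mul_assoc, ht2, one_mul]
  have hinv : t * (t * b) * t⁻¹ = (t * b)⁻¹ := by
    rw [mul_inv_rev, hti, hbi, ← mul_assoc t t b, ht2, one_mul]
  rcases Nat.even_or_odd (orderOf (t * b)) with he | ho
  · obtain ⟨m, hm⟩ := he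
    have hm0 : 0 < m := by have := orderOf_pos (t * b); omega
    have hu : orderOf ((t * b) ^ m) = 2 := by
      rw [orderOf_pow_of_dvd hm0.ne' ⟨2, by omega⟩, show orderOf (t * b) = 2 * m by omega,
        Nat.mul_div_left _ hm0]
    have hsq : ((t * b) ^ m)⁻¹ = (t * b) ^ m :=
      inv_eq_of_mul_eq_one_right (by rw [← pow_two, ← hu, pow_orderOf_eq_one])
    have hct : Commute ((t * b) ^ m) t := by
      have h : t * (t * b) ^ m * t⁻¹ = (t * b) ^ m := by rw [← conj_pow, hinv, inv_pow, hsq]
      exact (mul_inv_eq_iff_eq_mul.1 h).symm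
    have h := hct.mul_right ((Commute.refl (t * b)).pow_left m)
    rw [← mul_assoc t t b, ht2, one_mul] at h
    exact ⟨(t * b) ^ m, hu, hct, h⟩
  · have heven := hno (t * b) (isConj_iff.2 ⟨t, hinv⟩)
    set C := Subgroup.centralizer ({t * b} : Set G)
    have hodd := odd_card_involutions (A := C) heven
    by_contra hne
    obtain ⟨s, -, hs⟩ := sum_of_involution
      (Finset.univ.filter fun y : G => orderOf y = 2 ∧ Commute y (t * b))
      (fun y => t * y * t⁻¹) (fun y hy => by
        obtain ⟨-, hy1, hy2⟩ := Finset.mem_filter.1 hy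
        refine Finset.mem_filter.2 ⟨Finset.mem_univ _, ?_, ?_⟩
        · rw [show t * y * t⁻¹ = MulAut.conj t y from rfl, MulEquiv.orderOf_eq, hy1]
        · have h : Commute (t * y * t⁻¹) (t * (t * b)⁻¹ * t⁻¹) :=
            (hy2.inv_right).map (MulAut.conj t).toMonoidHom
          rwa [← conj_inv, hinv, inv_inv] at h)
      (fun y _ => by
        rw [hti, show t * (t * y * t) * t = (t * t) * y * (t * t) by group, ht2, one_mul, mul_one])
      (fun y hy e => by
        have hyt : Commute y t := (mul_inv_eq_iff_eq_mul.1 e).symm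
        have h := hyt.mul_right (Finset.mem_filter.1 hy).2.2
        rw [← mul_assoc t t b, ht2, one_mul] at h
        exact hne ⟨y, (Finset.mem_filter.1 hy).2.1, hyt, h⟩)
      (fun _ => (1 : ℂ)) (fun _ _ => rfl)
    rw [Finset.sum_const, Finset.sum_const, nsmul_eq_mul, nsmul_eq_mul, mul_one, mul_one] at hs
    have hcard : (Finset.univ.filter fun y : C => orderOf y = 2).card =
        (Finset.univ.filter fun y : G => orderOf y = 2 ∧ Commute y (t * b)).card := by
      refine Finset.card_bij (fun y _ => (y : G)) (fun y hy => ?_) (fun y _ z _ h => Subtype.ext h)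
        (fun y hy => ?_)
      · exact Finset.mem_filter.2 ⟨Finset.mem_univ _,
          by rw [Subgroup.orderOf_coe]; exact (Finset.mem_filter.1 hy).2,
          Subgroup.mem_centralizer_singleton_iff.1 y.2⟩
      · obtain ⟨-, hy1, hy2⟩ := Finset.mem_filter.1 hy
        exact ⟨⟨y, Subgroup.mem_centralizer_singleton_iff.2 hy2⟩,
          Finset.mem_filter.2 ⟨Finset.mem_univ _, by rw [Subgroup.orderOf_mk, hy1]⟩, rfl⟩
    have hs' : (Finset.univ.filter fun y : G => orderOf y = 2 ∧ Commute y (t * b)).card = 2 * s.card := by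
      exact_mod_cast hs
    rw [hcard, hs'] at hodd
    exact (Nat.not_even_iff_odd.2 hodd) (even_two_mul _)

/-- With one class of involutions, few involutions commuting with one of them give a real element
with centraliser of odd order. -/
theorem exists_real_odd {t : G} (ht : orderOf t = 2)
    (hone : ∀ u : G, orderOf u = 2 → IsConj t u)
    (hcount : (invol t).card ^ 2 < (Subgroup.centralizer ({t} : Set G)).index) :
    ∃ x : G, IsConj x x⁻¹ ∧ Odd (Nat.card (Subgroup.centralizer ({x} : Set G))) := by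
  by_contra hno
  simp only [not_exists, not_and, Nat.not_odd_iff_even] at hno
  have hsub : ClassCount.cls t ⊆ (invol t).biUnion invol := by
    intro b hb
    obtain ⟨g, rfl⟩ := isConj_iff.1 (ClassCount.mem_cls.1 hb)
    obtain ⟨u, hu, hut, hub⟩ := exists_common ht
      (show orderOf (g * t * g⁻¹) = 2 by
        rw [show g * t * g⁻¹ = MulAut.conj g t from rfl, MulEquiv.orderOf_eq, ht]) hno
    refine Finset.mem_biUnion.2 ⟨u, Finset.mem_filter.2 ⟨Finset.mem_univ _, hu, hut⟩,
      Finset.mem_filter.2 ⟨Finset.mem_univ _, ?_, hub.symm⟩⟩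
    rw [show g * t * g⁻¹ = MulAut.conj g t from rfl, MulEquiv.orderOf_eq, ht]
  have h := (Finset.card_le_card hsub).trans Finset.card_biUnion_le
  rw [ClassCount.card_cls, Finset.sum_congr rfl (fun u hu =>
    card_invol_conj (hone u (Finset.mem_filter.1 hu).2.1)), Finset.sum_const, smul_eq_mul, ← pow_two] at h
  omega

/-- Both characters, given the inversion property and a real element with odd centraliser. -/
theorem characters_of_real_odd (hG : Even (Nat.card G)) {M : Ideal AlgInt} (hM : IsPModular 2 M)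
    {k : ℕ} (hk : ∀ g : G, g ^ k = g⁻¹) {x : G} (hx : IsConj x x⁻¹)
    (hxo : Odd (Nat.card (Subgroup.centralizer ({x} : Set G)))) :
    (∃ χ₁ : IrrCharacter G, Even (charDegree (χ₁ : G → ℂ)) ∧
      ∀ g : G, (χ₁ : G → ℂ) (g ^ k) = (χ₁ : G → ℂ) g) ∧
    ∃ χ₂ ∈ principalBlock M G, (χ₂ : G → ℂ) ≠ (fun _ => 1) ∧
      ∀ g : G, (χ₂ : G → ℂ) (g ^ k) = (χ₂ : G → ℂ) g := by
  obtain ⟨χ, h1, h2⟩ := exists_even_real hG hx hxo
  obtain ⟨ψ, h3, h4, h5⟩ := exists_real_principal hG hM
  exact ⟨⟨χ, h1, fun g => by rw [hk, h2]⟩, ψ, h3, h4, fun g => by rw [hk, h5]⟩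

end CfsgLib.RealEven
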