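import Cfsg.Agent.Lib.RealEven.Central
import Cfsg.Agent.Lib.SylTwoAbel.Simple
import Cfsg.Agent.Lib.GW.Done
import Cfsg.Agent.Lib.Walter.LocalFusion
import Cfsg.Agent.Lib.Characters.Burnside
import Cfsg.Prelude.Def_Sporadic

/-!
A real element with centraliser of odd order in a simple group with abelian Sylow 2-subgroups, from the
list of these groups and the structure of the rank three case.
-/

set_option autoImplicit false
set_option linter.unusedSectionVars false

noncomputable section

namespace CfsgLib.RealEven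

open Cfsg
open scoped Classical

universe u

/-- The list of simple groups with abelian Sylow 2-subgroups. -/
def AbelianList : Prop :=
  ∀ (G : Type u) [Group G] [Finite G] [IsSimpleGroup G] (_ : ¬ IsMulCommutative G) (S : Sylow 2 G)
    (_ : IsMulCommutative (S : Subgroup G)),
    (∃ a : ℕ, 2 ≤ a ∧ ∃ (F : Type) (_ : Field F) (_ : Fintype F), Fintype.card F = 2 ^ a ∧
        Nonempty (G ≃* Matrix.ProjectiveSpecialLinearGroup (Fin 2) F)) ∨
      (∃ (F : Type) (_ : Field F) (_ : Fintype F), (Fintype.card F % 8 = 3 ∨ Fintype.card F % 8 = 5) ∧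
        Nonempty (G ≃* Matrix.ProjectiveSpecialLinearGroup (Fin 2) F)) ∨
      Cfsg.IsRee G ∨ Cfsg.IsJ1 G

/-- The centraliser in the rank three configuration, with the order of the group. -/
def CentralGoal : Prop :=
  ∀ (G : Type u) [Group G] [Finite G] (E : CfsgLib.Walter.Setup G),
    ∃ (F : Type) (_ : Field F) (_ : Fintype F),
      Nonempty (↥(Subgroup.centralizer ({E.t} : Set G)) ≃*
        Multiplicative (ZMod 2) × Matrix.ProjectiveSpecialLinearGroup (Fin 2) F) ∧
      (((Fintype.card F = 4 ∨ Fintype.card F = 5) ∧ Nat.card G = 175560) ∨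
        (Fintype.card F % 4 = 3 ∧ Nat.card G =
          Fintype.card F ^ 3 * (Fintype.card F ^ 3 + 1) * (Fintype.card F - 1)))

/-- An automorphism of odd order of an abelian group of order eight that is not elementary is trivial. -/
theorem aut_eq_one {A : Type*} [CommGroup A] [Finite A] (h8 : Nat.card A = 8) {x : A}
    (hx : x * x ≠ 1) {f : A ≃* A} {m : ℕ} (hm : Odd m) (hf : ∀ a : A, f^[m] a = a) (a : A) :
    f a = a := by
  obtain ⟨j, hj⟩ := hm
  have hdvd : orderOf x ∣ 2 ^ 3 := by rw [show (2 : ℕ) ^ 3 = Nat.card A by omega]; exact orderOf_dvd_natCard x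
  obtain ⟨i, hi, hxi⟩ := (Nat.dvd_prime_pow Nat.prime_two).1 hdvd
  have hi2 : 2 ≤ i := by
    by_contra h
    refine hx ?_
    rw [← pow_two, ← orderOf_dvd_iff_pow_eq_one, hxi]
    exact (pow_dvd_pow 2 (by omega : i ≤ 1)).trans (by norm_num)
  by_cases h3 : ∃ y : A, orderOf y = 8
  · obtain ⟨y, hy⟩ := h3
    have hgen : ∀ b : A, ∃ k : ℕ, y ^ k = b := fun b => by
      have h : Subgroup.zpowers y = ⊤ := Subgroup.eq_top_of_card_eq _ (by rw [Nat.card_zpowers, hy, h8])
      exact mem_powers_iff_mem_zpowers.2 (h ▸ Subgroup.mem_top b)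
    obtain ⟨k, hk⟩ := hgen (f y)
    have hko : orderOf (y ^ k) = 8 := by rw [hk, MulEquiv.orderOf_eq, hy]
    have hkk : y ^ (k * k) = y := by
      have hk2 : k % 2 = 1 := by
        rcases Nat.mod_two_eq_zero_or_one k with h | h
        · exfalso
          obtain ⟨l, rfl⟩ : ∃ l, k = 2 * l := ⟨k / 2, by omega⟩
          have : (y ^ (2 * l)) ^ 4 = 1 := by
            rw [← pow_mul, show 2 * l * 4 = 8 * l by ring, pow_mul, ← hy, pow_orderOf_eq_one, one_pow]
          have := Nat.le_of_dvd (by norm_num) (orderOf_dvd_of_pow_eq_one this)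
          omega
        · exact h
      conv_rhs => rw [← pow_one y]
      rw [pow_eq_pow_iff_modEq, hy, Nat.ModEq, Nat.mul_mod]
      rcases (show k % 8 = 1 ∨ k % 8 = 3 ∨ k % 8 = 5 ∨ k % 8 = 7 by omega) with h | h | h | h <;> rw [h]
    have h2 : ∀ b : A, f (f b) = b := fun b => by
      obtain ⟨l, rfl⟩ := hgen b
      rw [map_pow, map_pow, ← hk, map_pow, ← hk, ← pow_mul y k k, hkk]
    have hit : ∀ n : ℕ, f^[2 * n] a = a := fun n => by
      induction n with
      | zero => rfl
      | succ n ih => rw [show 2 * (n + 1) = 2 * n + 1 + 1 by ring, Function.iterate_succ_apply',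
          Function.iterate_succ_apply', ih, h2]
    have h := hf a
    have h' : (⇑f)^[2 * j + 1] a = f ((⇑f)^[2 * j] a) := Function.iterate_succ_apply' _ _ _
    rw [hj, h', hit] at h
    exact h
  · have hi' : i = 2 := by
      by_contra h
      exact h3 ⟨x, by rw [hxi, show i = 3 by omega]; norm_num⟩
    subst hi'
    -- the only non-trivial square
    have hidx : (Subgroup.zpowers x).index = 2 := by
      have h := (Subgroup.zpowers x).card_mul_index
      rw [Nat.card_zpowers, hxi, h8] at h
      omega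
    have hsquare : ∀ b : A, b * b = 1 ∨ b * b = x * x := fun b => by
      have hb : b * b ∈ Subgroup.zpowers x :=
        Subgroup.mul_self_mem_of_index_two hidx b
      obtain ⟨k, hk⟩ := mem_powers_iff_mem_zpowers.2 hb
      simp only at hk
      have hb4 : (b * b) * (b * b) = 1 := by
        obtain ⟨l, hl, hbl⟩ := (Nat.dvd_prime_pow Nat.prime_two).1
          (show orderOf b ∣ 2 ^ 3 by rw [show (2 : ℕ) ^ 3 = Nat.card A by omega]; exact orderOf_dvd_natCard b)
        have h4 : orderOf b ∣ 4 := by
          rw [hbl, show (4 : ℕ) = 2 ^ 2 by norm_num]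
          refine pow_dvd_pow 2 ?_
          by_contra h
          exact h3 ⟨b, by rw [hbl, show l = 3 by omega]; norm_num⟩
        rw [← pow_two, ← pow_two, ← pow_mul, ← orderOf_dvd_iff_pow_eq_one]
        exact h4
      rw [← hk, ← pow_add, ← orderOf_dvd_iff_pow_eq_one, hxi] at hb4
      obtain ⟨l, rfl⟩ : ∃ l, k = 2 * l := ⟨k / 2, by omega⟩
      rw [← hk, pow_mul, pow_two]
      have hxx : (x * x) * (x * x) = 1 := by
        rw [← pow_two, ← pow_two, ← pow_mul, ← orderOf_dvd_iff_pow_eq_one, hxi]
        norm_num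
      rcases Nat.even_or_odd l with ⟨r, rfl⟩ | ⟨r, rfl⟩
      · exact Or.inl (by rw [← two_mul, pow_mul, pow_two, hxx, one_pow])
      · exact Or.inr (by rw [pow_succ, pow_mul, pow_two, hxx, one_pow, one_mul])
    have hz : f (x * x) = x * x := by
      rw [map_mul]
      refine (hsquare (f x)).resolve_left fun h => hx ?_
      rw [← map_mul] at h
      exact (MulEquiv.map_eq_one_iff f).1 h
    -- the elements of square one
    have hK : ∀ b : A, b * b = 1 → f b = b := by
      intro b hb
      by_contra hne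
      have hfb : f b * f b = 1 := by rw [← map_mul, hb, map_one]
      have hb1 : b ≠ 1 := fun e => hne (by rw [e, map_one])
      have hbz : b ≠ x * x := fun e => hne (by rw [e, hz])
      have hfb1 : f b ≠ 1 := fun e => hb1 ((MulEquiv.map_eq_one_iff f).1 e)
      have hfbz : f b ≠ x * x := fun e => hbz (f.injective (e.trans hz.symm))
      let K : Subgroup A :=
        { carrier := {c | c * c = 1}
          one_mem' := one_mul 1
          mul_mem' := fun {c d} hc hd => by
            show c * d * (c * d) = 1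
            rw [mul_mul_mul_comm, hc, hd, one_mul]
          inv_mem' := fun {c} hc => by
            show c⁻¹ * c⁻¹ = 1
            rw [← mul_inv_rev, hc, inv_one] }
      have hxx : (x * x) * (x * x) = 1 := by
        rw [← pow_two, ← pow_two, ← pow_mul, ← orderOf_dvd_iff_pow_eq_one, hxi]
        norm_num
      have hK4 : Nat.card K ≤ 4 := by
        have hne : K ≠ ⊤ := fun e => hx (show x ∈ K from e ▸ Subgroup.mem_top x)
        have h1 := K.card_mul_index
        rw [h8] at h1
        have h2 : 2 ≤ K.index := Nat.one_lt_iff_ne_zero_and_ne_one.2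
          ⟨Subgroup.index_ne_zero_of_finite, fun e => hne (Subgroup.index_eq_one.1 e)⟩
        nlinarith [Nat.card_pos (α := K)]
      -- `1, x², b, f b` exhaust `K`, so `f (f b) = b`
      have hff : f (f b) = b := by
        by_contra hff
        have h5 : ({1, x * x, b, f b, f (f b)} : Finset A).card = 5 := by
          have e1 : f (f b) ≠ 1 := fun e => hfb1 ((MulEquiv.map_eq_one_iff f).1 e)
          have e2 : f (f b) ≠ x * x := fun e => hfbz (f.injective (e.trans hz.symm))
          have e3 : f (f b) ≠ f b := fun e => hne (f.injective e)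
          rw [Finset.card_insert_of_notMem, Finset.card_insert_of_notMem, Finset.card_insert_of_notMem,
            Finset.card_pair] <;>
            simp [Ne.symm hb1, Ne.symm hfb1, Ne.symm e1, Ne.symm hbz, Ne.symm hfbz, Ne.symm e2,
              Ne.symm hne, Ne.symm hff, Ne.symm e3, hx, Ne.symm hx]
        have hle : ({1, x * x, b, f b, f (f b)} : Finset A).card ≤ Nat.card K := by
          rw [← Nat.card_eq_finsetCard]
          refine Nat.card_le_card_of_injective (fun c => (⟨c.1, ?_⟩ : K))
            fun c d h => Subtype.ext (congrArg (fun c : K => (c : A)) h)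
          have hc := c.2
          simp only [Finset.mem_insert, Finset.mem_singleton] at hc
          show c.1 * c.1 = 1
          rcases hc with h | h | h | h | h <;> rw [h]
          · exact one_mul 1
          · exact hxx
          · exact hb
          · exact hfb
          · rw [← map_mul, hfb, map_one]
        omega
      have hit : ∀ n : ℕ, f^[2 * n] b = b := fun n => by
        induction n with
        | zero => rfl
        | succ n ih => rw [show 2 * (n + 1) = 2 * n + 1 + 1 by ring, Function.iterate_succ_apply',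
            Function.iterate_succ_apply', ih, hff]
      have h := hf b
      have h' : (⇑f)^[2 * j + 1] b = f ((⇑f)^[2 * j] b) := Function.iterate_succ_apply' _ _ _
      rw [hj, h', hit] at h
      exact hne h
    rcases hsquare a with h | h
    · exact hK a h
    · have hd : (f a * a⁻¹) * (f a * a⁻¹) = 1 := by
        rw [mul_mul_mul_comm, ← map_mul, h, hz, ← mul_inv_rev, h, mul_inv_cancel]
      have hit : ∀ n : ℕ, f^[n] a = (f a * a⁻¹) ^ n * a := fun n => by
        induction n with
        | zero => simp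
        | succ n ih =>
          rw [Function.iterate_succ_apply', ih, map_mul, map_pow, hK _ hd, pow_succ]
          group
      have h' := hit m
      rw [hf, hj, pow_succ, pow_mul, pow_two, hd, one_pow, one_mul, inv_mul_cancel_right] at h'
      exact h'.symm

variable {G : Type u} [Group G] [Fintype G]

/-- Burnside: in a simple group the normaliser of an abelian Sylow 2-subgroup does not centralise it. -/
theorem no_complement [IsSimpleGroup G] (hna : ¬ IsMulCommutative G) (S : Sylow 2 G)
    (hS : IsMulCommutative (S : Subgroup G)) (h2 : 2 ∣ Nat.card G)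
    (hle : Subgroup.normalizer ((S : Subgroup G) : Set G) ≤
      Subgroup.centralizer ((S : Subgroup G) : Set G)) : False := by
  haveI : Fact (Nat.Prime 2) := ⟨Nat.prime_two⟩
  rcases CfsgLib.Transfer.simple_of_hasNormalPComplement
    (CfsgLib.Transfer.hasNormalPComplement_of_normalizer_le S hle) with h | h
  · exact h h2
  · obtain ⟨n, hn⟩ := IsPGroup.iff_card.1 h
    have htop : (S : Subgroup G) = ⊤ := Subgroup.eq_top_of_card_eq _ (by
      rw [S.card_eq_multiplicity, hn, Nat.factorization_pow, Finsupp.smul_apply,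
        Nat.Prime.factorization_self Nat.prime_two, smul_eq_mul, mul_one])
    refine hna ⟨⟨fun a b => ?_⟩⟩
    exact congrArg Subtype.val (hS.is_comm.comm (⟨a, htop ▸ Subgroup.mem_top a⟩ : (S : Subgroup G))
      ⟨b, htop ▸ Subgroup.mem_top b⟩)

/-- An abelian Sylow 2-subgroup of order eight of a simple group is elementary. -/
theorem sq_of_card_eight [IsSimpleGroup G] (hna : ¬ IsMulCommutative G) (S : Sylow 2 G)
    (hS : IsMulCommutative (S : Subgroup G)) (h8 : Nat.card (S : Subgroup G) = 8) :
    ∀ s ∈ (S : Subgroup G), s * s = 1 := by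
  haveI : Fact (Nat.Prime 2) := ⟨Nat.prime_two⟩
  intro s hs
  by_contra hne
  letI : CommGroup (S : Subgroup G) :=
    { (inferInstance : Group (S : Subgroup G)) with mul_comm := fun a b => hS.is_comm.comm a b }
  have hle : Subgroup.normalizer ((S : Subgroup G) : Set G) ≤
      Subgroup.centralizer ((S : Subgroup G) : Set G) := by
    intro n hn
    obtain ⟨j, m, hm, hnm⟩ := Nat.exists_eq_pow_mul_and_not_dvd (orderOf_pos n).ne' 2 (by norm_num)
    have hmodd : Odd m := Nat.odd_iff.2 (Nat.two_dvd_ne_zero.1 hm)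
    have hpart : n ^ m ∈ Subgroup.centralizer ((S : Subgroup G) : Set G) := by
      have hmem : n ^ m ∈ (S : Subgroup G) := CfsgLib.Transfer.isPGroup_mem_of_mem_normalizer S
        (pow_mem hn m) j (by rw [← pow_mul, mul_comm, ← hnm, pow_orderOf_eq_one])
      exact Subgroup.mem_centralizer_iff.2 fun y hy =>
        congrArg Subtype.val (mul_comm (⟨y, hy⟩ : (S : Subgroup G)) ⟨_, hmem⟩)
    -- the odd part acts trivially
    have hu : n ^ 2 ^ j ∈ Subgroup.centralizer ((S : Subgroup G) : Set G) := by
      have hun : n ^ 2 ^ j ∈ Subgroup.normalizer ((S : Subgroup G) : Set G) := pow_mem hn _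
      let f : (S : Subgroup G) ≃* (S : Subgroup G) :=
        { toFun := fun y => ⟨n ^ 2 ^ j * y * (n ^ 2 ^ j)⁻¹, (Subgroup.mem_normalizer_iff.1 hun y).1 y.2⟩
          invFun := fun y => ⟨(n ^ 2 ^ j)⁻¹ * y * n ^ 2 ^ j, by
            have h := (Subgroup.mem_normalizer_iff.1 (inv_mem hun) y).1 y.2
            rwa [inv_inv] at h⟩
          left_inv := fun y => Subtype.ext (by simp only; group)
          right_inv := fun y => Subtype.ext (by simp only; group)
          map_mul' := fun y z => Subtype.ext (by simp only [Subgroup.coe_mul]; group) }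
      have hit : ∀ (k : ℕ) (y : (S : Subgroup G)),
          ((f^[k] y : (S : Subgroup G)) : G) = (n ^ 2 ^ j) ^ k * y * ((n ^ 2 ^ j) ^ k)⁻¹ := by
        intro k y
        induction k with
        | zero => simp
        | succ k ih =>
          rw [Function.iterate_succ_apply']
          show n ^ 2 ^ j * ((f^[k] y : (S : Subgroup G)) : G) * (n ^ 2 ^ j)⁻¹ = _
          rw [ih, pow_succ']
          group
      refine Subgroup.mem_centralizer_iff.2 fun y hy => ?_
      have h := congrArg Subtype.val (aut_eq_one (f := f) h8 (x := (⟨s, hs⟩ : (S : Subgroup G)))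
        (fun e => hne (congrArg Subtype.val e)) hmodd (fun a => Subtype.ext (by
          rw [hit, ← pow_mul, ← hnm, pow_orderOf_eq_one]; simp)) ⟨y, hy⟩)
      exact (mul_inv_eq_iff_eq_mul.1 h).symm
    have hcop : Nat.Coprime (2 ^ j) m :=
      Nat.Coprime.pow_left j (Nat.coprime_two_left.2 hmodd)
    obtain ⟨a, b, hab⟩ : ∃ a b : ℤ, ((2 ^ j : ℕ) : ℤ) * a + (m : ℤ) * b = 1 :=
      ⟨_, _, (Nat.gcd_eq_gcd_ab (2 ^ j) m).symm.trans (by rw [hcop]; rfl)⟩
    rw [← zpow_one n, ← hab, zpow_add, zpow_mul, zpow_mul, zpow_natCast, zpow_natCast]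
    exact mul_mem (zpow_mem hu a) (zpow_mem hpart b)
  exact no_complement hna S hS ((show 2 ∣ 8 by norm_num).trans (h8 ▸ Subgroup.card_subgroup_dvd_card _))
    hle

/-- A Sylow subgroup of order four of a simple group is elementary. -/
theorem sq_of_card_four [IsSimpleGroup G] (hna : ¬ IsMulCommutative G) (S : Sylow 2 G)
    (h4 : Nat.card (S : Subgroup G) = 4) : ∀ s ∈ (S : Subgroup G), s * s = 1 := by
  haveI : Fact (Nat.Prime 2) := ⟨Nat.prime_two⟩
  intro s hs
  by_contra hne
  have hcyc : IsCyclic (S : Subgroup G) := by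
    refine isCyclic_of_orderOf_eq_card (⟨s, hs⟩ : (S : Subgroup G)) ?_
    rw [Subgroup.orderOf_mk, h4]
    have hd := Subgroup.orderOf_mk s hs ▸ orderOf_dvd_natCard (⟨s, hs⟩ : (S : Subgroup G))
    rw [h4, show (4 : ℕ) = 2 ^ 2 by norm_num] at hd
    obtain ⟨k, hk, hsk⟩ := (Nat.dvd_prime_pow Nat.prime_two).1 hd
    have hk2 : k = 2 := by
      by_contra h
      refine hne ?_
      rw [← pow_two, ← orderOf_dvd_iff_pow_eq_one, hsk]
      exact (pow_dvd_pow 2 (by omega : k ≤ 1)).trans (by norm_num)
    rw [hsk, hk2]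
    norm_num
  have h2 : 2 ∣ Nat.card G :=
    (show 2 ∣ 4 by norm_num).trans (h4 ▸ Subgroup.card_subgroup_dvd_card _)
  exact no_complement hna S hcyc.commutative h2
    (IsCyclic.normalizer_le_centralizer ((Nat.minFac_eq_two_iff _).2 h2) hcyc)

/-- Simple groups with abelian Sylow 2-subgroups have a real element with centraliser of odd order,
and inversion is the only Galois map fixing their 2-elements. -/
theorem exists_real_odd_of_list (hlist : AbelianList.{u}) (hcent : CentralGoal.{u}) [IsSimpleGroup G]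
    (hna : ¬ IsMulCommutative G) (S : Sylow 2 G) (hS : IsMulCommutative (S : Subgroup G)) :
    (∃ x : G, IsConj x x⁻¹ ∧ Odd (Nat.card (Subgroup.centralizer ({x} : Set G)))) ∧
      ∀ s ∈ (S : Subgroup G), s * s = 1 := by
  haveI : Fact (Nat.Prime 2) := ⟨Nat.prime_two⟩
  have hns : ¬ Group.IsSolvable G := fun h =>
    hna ⟨⟨fun a b => IsSimpleGroup.comm_iff_isSolvable.2 h a b⟩⟩
  have hnoF : ∀ (F : Type) [Field F] [Fintype F],
      Nonempty (G ≃* Matrix.ProjectiveSpecialLinearGroup (Fin 2) F) → Fintype.card F ≠ 3 := by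
    rintro F _ _ ⟨e⟩ h3
    have hd := CfsgLib.PSL2.gcd_eq_two (F := F) (by rw [h3]; decide)
    have hc := CfsgLib.PSL2.card_psl (F := F)
    rw [hd, h3, ← Nat.card_congr e.toEquiv] at hc
    exact hns (CfsgLib.Burnside.isSolvable_of_card_eq Nat.prime_two Nat.prime_three 2 1 (by omega))
  have hmodel : ∀ (F : Type) [Field F] [Fintype F],
      ((Fintype.card F % 8 = 3 ∨ Fintype.card F % 8 = 5) ∨ ∃ n : ℕ, 2 ≤ n ∧ Fintype.card F = 2 ^ n) →
      Nonempty (G ≃* Matrix.ProjectiveSpecialLinearGroup (Fin 2) F) →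
      (∃ x : G, IsConj x x⁻¹ ∧ Odd (Nat.card (Subgroup.centralizer ({x} : Set G)))) ∧
        ∀ s ∈ (S : Subgroup G), s * s = 1 := by
    intro F _ _ hq hne
    obtain ⟨e⟩ := hne
    have hG2 : Even (Nat.card G) := by
      rw [← Nat.not_odd_iff_even]
      exact fun h => hns (CfsgLib.PF.oddSolvable.{u} G h)
    rcases hq with hq | ⟨n, hn, hq⟩
    · have h3 := hnoF F ⟨e⟩
      refine ⟨real_odd_of_equiv e (real_odd_odd hq (by omega)), sq_of_card_four hna S ?_⟩
      have hodd : Odd (Fintype.card F) := Nat.odd_iff.2 (by omega)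
      have hc := CfsgLib.PSL2.card_psl (F := F)
      rw [CfsgLib.PSL2.gcd_eq_two hodd, ← Nat.card_congr e.toEquiv] at hc
      obtain ⟨r, hr⟩ : ∃ r, Fintype.card F = 8 * r + 3 ∨ Fintype.card F = 8 * r + 5 :=
        ⟨Fintype.card F / 8, by omega⟩
      obtain ⟨u, hu, hGu⟩ : ∃ u, Odd u ∧ Nat.card G = 2 ^ 2 * u := by
        rcases hr with hr | hr <;> rw [hr] at hc
        · refine ⟨(2 * r + 1) * (8 * r + 3) * (4 * r + 1),
            (Odd.mul ⟨r, rfl⟩ ⟨4 * r + 1, by ring⟩).mul ⟨2 * r, by ring⟩,
            Nat.eq_of_mul_eq_mul_left two_pos ?_⟩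
          rw [hc, show 8 * r + 3 - 1 = 2 * (4 * r + 1) by omega]
          ring
        · refine ⟨(4 * r + 3) * (8 * r + 5) * (2 * r + 1),
            (Odd.mul ⟨2 * r + 1, by ring⟩ ⟨4 * r + 2, by ring⟩).mul ⟨r, rfl⟩,
            Nat.eq_of_mul_eq_mul_left two_pos ?_⟩
          rw [hc, show 8 * r + 5 - 1 = 4 * (2 * r + 1) by omega]
          ring
      have hu2 : ¬ 2 ∣ u := by rw [← even_iff_two_dvd, Nat.not_even_iff_odd]; exact hu
      rw [S.card_eq_multiplicity, hGu, Nat.factorization_mul (by norm_num) (by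
        intro h; exact hu2 (h ▸ dvd_zero 2))]
      rw [Finsupp.add_apply, Nat.Prime.factorization_pow Nat.prime_two, Nat.factorization_eq_zero_of_not_dvd hu2,
        Finsupp.single_eq_same]
      norm_num
    · have he : Even (Fintype.card F) := by rw [hq]; exact (Nat.even_pow.2 ⟨even_two, by omega⟩)
      haveI : IsSimpleGroup (Matrix.ProjectiveSpecialLinearGroup (Fin 2) F) :=
        e.symm.isSimpleGroup
      refine ⟨real_odd_of_equiv e (real_odd_even he
        (fun h => hna ⟨⟨fun a b => e.injective (by rw [map_mul, map_mul]; exact h.is_comm.comm _ _)⟩⟩)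
        (by rw [← Nat.card_congr e.toEquiv]; exact hG2)), fun s hs => ?_⟩
      obtain ⟨k, hk⟩ := IsPGroup.iff_orderOf.1 S.2 ⟨s, hs⟩
      rw [Subgroup.orderOf_mk] at hk
      rw [← pow_two, ← orderOf_dvd_iff_pow_eq_one, hk]
      refine (pow_dvd_pow 2 (?_ : k ≤ 1)).trans (by norm_num)
      by_contra hk2
      refine CfsgLib.PSL2.orderOf_ne_four_of_even he (e (s ^ 2 ^ (k - 2))) ?_
      rw [MulEquiv.orderOf_eq, orderOf_pow_of_dvd (by positivity) (by rw [hk]; exact pow_dvd_pow 2 (by omega)),
        hk, Nat.pow_div (by omega) two_pos, show k - (k - 2) = 2 by omega]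
      norm_num
  by_cases hsolv : ∀ t : G, orderOf t = 2 → Group.IsSolvable ↥(Subgroup.centralizer ({t} : Set G))
  · obtain ⟨F, _, _, hgood, he⟩ := CfsgLib.SylTwoAbel.exists_psl_of_simple
      CfsgLib.GW.Done.classification hns S
      (fun a ha b hb => congrArg Subtype.val (hS.is_comm.comm (⟨a, ha⟩ : (S : Subgroup G)) ⟨b, hb⟩)) hsolv
    exact hmodel F (hgood.imp (fun h => h.1) id) he
  rcases hlist G hna S hS with ⟨a, ha, F, _, _, hq, he⟩ | ⟨F, _, _, hq, he⟩ | hord
  · exact hmodel F (Or.inr ⟨a, ha, hq⟩) he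
  · exact hmodel F (Or.inl hq) he
  have h8 : Nat.card (S : Subgroup G) = 8 := by
    rw [S.card_eq_multiplicity]
    rcases hord with ⟨-, m, hm, hc⟩ | ⟨-, hc⟩
    · rw [hc]
      obtain ⟨r, hr⟩ : ∃ r, (3 : ℕ) ^ (2 * m + 1) = 8 * r + 3 := by
        refine ⟨3 ^ (2 * m + 1) / 8, ?_⟩
        have : 3 ^ (2 * m + 1) % 8 = 3 := by
          rw [pow_succ, pow_mul, Nat.mul_mod, Nat.pow_mod]; norm_num
        omega
      rw [hr, show (8 * r + 3) ^ 3 * ((8 * r + 3) ^ 3 + 1) * (8 * r + 3 - 1) =
        2 ^ 3 * ((8 * r + 3) ^ 3 * (128 * r ^ 3 + 144 * r ^ 2 + 54 * r + 7) * (4 * r + 1)) by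
          rw [show 8 * r + 3 - 1 = 8 * r + 2 by omega]; ring,
        Nat.factorization_mul (by norm_num) (by positivity)]
      have hoddp : ¬ 2 ∣ (8 * r + 3) ^ 3 * (128 * r ^ 3 + 144 * r ^ 2 + 54 * r + 7) * (4 * r + 1) := by
        rw [← even_iff_two_dvd, Nat.not_even_iff_odd]
        exact (Odd.pow ⟨4 * r + 1, by ring⟩).mul ⟨64 * r ^ 3 + 72 * r ^ 2 + 27 * r + 3, by ring⟩ |>.mul
          ⟨2 * r, by ring⟩
      rw [Finsupp.add_apply, Nat.Prime.factorization_pow Nat.prime_two,
        Nat.factorization_eq_zero_of_not_dvd hoddp, Finsupp.single_eq_same]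
      norm_num
    · rw [hc, show 175560 = 2 ^ 3 * 21945 by norm_num, Nat.factorization_mul (by norm_num) (by norm_num)]
      rw [Finsupp.add_apply, Nat.Prime.factorization_pow Nat.prime_two,
        Nat.factorization_eq_zero_of_not_dvd (show ¬ 2 ∣ 21945 by norm_num), Finsupp.single_eq_same]
      norm_num
  have hsq := sq_of_card_eight hna S hS h8
  refine ⟨?_, hsq⟩
  push_neg at hsolv
  obtain ⟨t, ht, hnsol⟩ := hsolv
  have ht2 : IsPGroup 2 (Subgroup.zpowers t) :=
    IsPGroup.of_card (n := 1) (by rw [Nat.card_zpowers, ht, pow_one])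
  obtain ⟨P, hP⟩ := ht2.exists_le_sylow
  have hP8 : Nat.card (P : Subgroup G) = 8 := by rw [Nat.card_congr (P.equiv S).toEquiv, h8]
  have hPc : IsMulCommutative (P : Subgroup G) := ⟨⟨fun a b => (P.equiv S).injective (by
    rw [map_mul, map_mul]; exact hS.is_comm.comm _ _)⟩⟩
  let E : CfsgLib.Walter.Setup G :=
    { simple := inferInstance, noncomm := hna, S := P, card_S := hP8,
      sq := sq_of_card_eight hna P hPc hP8, t := t, mem := hP (Subgroup.mem_zpowers t),
      ne := fun e => by rw [e, orderOf_one] at ht; omega, nonsolv := hnsol }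
  obtain ⟨F, _, _, ⟨e⟩, hq⟩ := hcent G E
  exact real_odd_of_centralizer ht
    (fun u hu => CfsgLib.Walter.Setup.isConj_t E
      (fun X i1 i2 hX => @CfsgLib.PF.oddSolvable.{u} X i1 i2 hX) hu) e hq

end CfsgLib.RealEven
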