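import Cfsg.Agent.Lib.RealEven.Local
import Cfsg.Agent.Lib.PSL2.Involution

/-!
Real elements with centraliser of odd order in `PSL₂(q)`.
-/

set_option autoImplicit false
set_option linter.unusedSectionVars false

noncomputable section

namespace CfsgLib.RealEven

open Cfsg CfsgLib.PSL2
open scoped Classical

/-- Transport along an isomorphism. -/
theorem real_odd_of_equiv {A B : Type*} [Group A] [Group B] (e : A ≃* B)
    (h : ∃ x : B, IsConj x x⁻¹ ∧ Odd (Nat.card (Subgroup.centralizer ({x} : Set B)))) :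
    ∃ x : A, IsConj x x⁻¹ ∧ Odd (Nat.card (Subgroup.centralizer ({x} : Set A))) := by
  obtain ⟨x, hx, hc⟩ := h
  refine ⟨e.symm x, by rw [← map_inv]; exact e.symm.toMonoidHom.map_isConj hx, ?_⟩
  rwa [Nat.card_congr (e.toEquiv.subtypeEquiv (q := fun y => y ∈ Subgroup.centralizer ({x} : Set B))
    fun y => ?_)]
  rw [Subgroup.mem_centralizer_singleton_iff, Subgroup.mem_centralizer_singleton_iff]
  show y * e.symm x = e.symm x * y ↔ e y * x = x * e y
  constructor
  · intro h'
    simpa using congrArg e h'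
  · intro h'
    apply e.injective
    simpa using h'

/-- No elements of order four or twice odd, and two involutions that do not commute. -/
theorem real_odd_of_orders {A : Type*} [Group A] [Fintype A] {t b : A} (ht : orderOf t = 2)
    (hb : orderOf b = 2) (hne : t * b ≠ b * t) (h4 : ∀ g : A, orderOf g ≠ 4)
    (h2 : ∀ g : A, ∀ r : ℕ, Odd r → 1 < r → orderOf g ≠ 2 * r) :
    ∃ x : A, IsConj x x⁻¹ ∧ Odd (Nat.card (Subgroup.centralizer ({x} : Set A))) := by
  have hti : t⁻¹ = t := inv_eq_of_mul_eq_one_right (by rw [← pow_two, ← ht, pow_orderOf_eq_one])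
  have hbi : b⁻¹ = b := inv_eq_of_mul_eq_one_right (by rw [← pow_two, ← hb, pow_orderOf_eq_one])
  refine ⟨t * b, isConj_iff.2 ⟨t, by
    rw [mul_inv_rev, hti, hbi, ← mul_assoc t t b, show t * t = 1 by
      rw [← pow_two, ← ht, pow_orderOf_eq_one], one_mul]⟩, ?_⟩
  have hodd : Odd (orderOf (t * b)) := by
    by_contra he
    obtain ⟨m, hm⟩ := Nat.not_odd_iff_even.1 he
    have hm0 : 0 < m := by have := orderOf_pos (t * b); omega
    rcases Nat.even_or_odd m with ⟨l, hl⟩ | hmo
    · refine h4 ((t * b) ^ l) ?_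
      rw [orderOf_pow_of_dvd (by omega) ⟨4, by omega⟩, show orderOf (t * b) = 4 * l by omega,
        Nat.mul_div_left _ (by omega : 0 < l)]
    · rcases Nat.lt_or_ge 1 m with h | h
      · exact h2 (t * b) m hmo h (by omega)
      · refine hne ?_
        have : (t * b) * (t * b) = 1 := by
          rw [← pow_two, show (2 : ℕ) = orderOf (t * b) by omega, pow_orderOf_eq_one]
        have h' := inv_eq_of_mul_eq_one_right this
        rw [mul_inv_rev, hti, hbi] at h'
        exact h'.symm
  rw [← Nat.not_even_iff_odd, even_iff_two_dvd]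
  intro hdvd
  haveI : Fact (Nat.Prime 2) := ⟨Nat.prime_two⟩
  obtain ⟨⟨u, huC⟩, hu⟩ := exists_prime_orderOf_dvd_card' 2 hdvd
  rw [Subgroup.orderOf_mk] at hu
  have h1 : orderOf (t * b) ≠ 1 := fun e => hne (by
    rw [orderOf_eq_one_iff.1 e]
    have h := orderOf_eq_one_iff.1 e
    rw [mul_eq_one_iff_eq_inv, hbi] at h
    rw [h, ← pow_two, ← hb, pow_orderOf_eq_one])
  refine h2 ((t * b) * u) (orderOf (t * b)) hodd (by have := orderOf_pos (t * b); omega) ?_
  rw [Commute.orderOf_mul_eq_mul_orderOf_of_coprime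
    (show Commute (t * b) u from (Subgroup.mem_centralizer_singleton_iff.1 huC).symm)
    (by rw [hu]; exact Nat.coprime_two_right.2 hodd), hu, mul_comm]

variable {F : Type*} [Field F] [Fintype F]

local notation "PSL" => Matrix.ProjectiveSpecialLinearGroup (Fin 2) F

/-- `PSL₂(2ⁿ)` has a real element with centraliser of odd order. -/
theorem real_odd_even (he : Even (Fintype.card F)) [IsSimpleGroup PSL]
    (hna : ¬ IsMulCommutative PSL) (h2 : Even (Nat.card PSL)) :
    ∃ x : PSL, IsConj x x⁻¹ ∧ Odd (Nat.card (Subgroup.centralizer ({x} : Set PSL))) := by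
  letI := Fintype.ofFinite PSL
  have hp : ringChar F = 2 := FiniteField.even_card_iff_char_two.2 (Nat.even_iff.1 he)
  haveI : Fact (Nat.Prime 2) := ⟨Nat.prime_two⟩
  haveI : CharP F 2 := ringChar.of_eq hp
  have htri : ∀ g : PSL, orderOf g ∣ 2 ∨ orderOf g ∣ Fintype.card F - 1 ∨
      orderOf g ∣ Fintype.card F + 1 := fun g => by
    rcases psl_pow_trichotomy 2 g with h | h | h <;> have h' := orderOf_dvd_of_pow_eq_one h
    · exact Or.inl h'
    · rw [gcd_eq_one he, Nat.div_one] at h'; exact Or.inr (Or.inl h')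
    · rw [gcd_eq_one he, Nat.div_one] at h'; exact Or.inr (Or.inr h')
  have hq := Fintype.one_lt_card (α := F)
  have hodd : ∀ g : PSL, ∀ d : ℕ, 2 < d → 2 ∣ d → orderOf g ≠ d := fun g d hd h2d e => by
    obtain ⟨m, hm⟩ := he
    rcases htri g with h | h | h <;> rw [e] at h
    · have := Nat.le_of_dvd two_pos h; omega
    · have := h2d.trans h; omega
    · have := h2d.trans h; omega
  obtain ⟨t, ht⟩ := exists_prime_orderOf_dvd_card' (G := PSL) 2 (even_iff_two_dvd.1 h2)
  obtain ⟨b, hb, hne⟩ : ∃ b : PSL, orderOf b = 2 ∧ t * b ≠ b * t := by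
    by_contra hno
    simp only [not_exists, not_and, not_not] at hno
    have hnc : Subgroup.normalClosure ({t} : Set PSL) ≠ ⊥ := fun e => by
      have h := Subgroup.subset_normalClosure (s := ({t} : Set PSL)) rfl
      rw [e] at h
      rw [(Subgroup.mem_bot.1 h), orderOf_one] at ht
      omega
    have hle : Subgroup.normalClosure ({t} : Set PSL) ≤ Subgroup.centralizer ({t} : Set PSL) := by
      rw [Subgroup.normalClosure, Subgroup.closure_le]
      intro y hy
      obtain ⟨a, ha, hc⟩ := Group.mem_conjugatesOfSet_iff.1 hy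
      obtain ⟨g, hg⟩ := isConj_iff.1 hc
      rw [Set.mem_singleton_iff] at ha
      exact Subgroup.mem_centralizer_singleton_iff.2 (hno _ (by
        rw [← hg, ha, show g * t * g⁻¹ = MulAut.conj g t from rfl, MulEquiv.orderOf_eq, ht])).symm
    rw [(Subgroup.normalClosure_normal.eq_bot_or_eq_top).resolve_left hnc, top_le_iff] at hle
    have hz : t ∈ Subgroup.center PSL := Subgroup.mem_center_iff.2 fun y =>
      Subgroup.mem_centralizer_singleton_iff.1 (hle ▸ Subgroup.mem_top y)
    rcases (inferInstance : (Subgroup.center PSL).Normal).eq_bot_or_eq_top with h | h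
    · rw [h, Subgroup.mem_bot] at hz
      rw [hz, orderOf_one] at ht
      omega
    · exact hna ⟨⟨fun x y => Subgroup.mem_center_iff.1 (h ▸ Subgroup.mem_top y) x⟩⟩
  exact real_odd_of_orders ht hb hne (fun g => hodd g 4 (by norm_num) (by norm_num))
    (fun g r hr h1 => hodd g (2 * r) (by omega) (dvd_mul_right 2 r))

/-- `PSL₂(q)`, `q > 3` odd, `q ≠ 7, 9`, has a real element with centraliser of odd order. -/
theorem real_odd_odd (h8 : Fintype.card F % 8 = 3 ∨ Fintype.card F % 8 = 5)
    (h5 : 5 ≤ Fintype.card F) :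
    ∃ x : PSL, IsConj x x⁻¹ ∧ Odd (Nat.card (Subgroup.centralizer ({x} : Set PSL))) := by
  letI := Fintype.ofFinite PSL
  obtain ⟨p, hp⟩ := CharP.exists F
  haveI : Fact p.Prime := ⟨CharP.char_is_prime F p⟩
  let ι : F →+* AlgebraicClosure F := algebraMap F _
  haveI : CharP (AlgebraicClosure F) p := charP_of_injective_ringHom ι.injective p
  obtain ⟨Φ, hΦ⟩ := exists_frob (F := F) (L := AlgebraicClosure F) p
  have hodd : Odd (Fintype.card F) := Nat.odd_iff.2 (by omega)
  have h2 := two_ne_zero_of_odd hodd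
  obtain ⟨x, y, e, hpair, h4e, heq⟩ : ∃ x y e, IsPair ι Φ x y e ∧ 4 ∣ e ∧
      ((Fintype.card F % 4 = 1 ∧ e = Fintype.card F - 1) ∨
        (Fintype.card F % 4 = 3 ∧ e = Fintype.card F + 1)) := by
    by_cases h4 : Fintype.card F % 4 = 1
    · obtain ⟨x, y, h⟩ := exists_isPair_split (ι := ι) (Φ := Φ)
      exact ⟨x, y, _, h, by omega, Or.inl ⟨h4, rfl⟩⟩
    · obtain ⟨x, y, h⟩ := exists_isPair_nonsplit hΦ (ι := ι)
      exact ⟨x, y, _, h, by omega, Or.inr ⟨by omega, rfl⟩⟩
  obtain ⟨i, hi, hC, hcard⟩ := exists_centralizer_eq hodd hΦ hpair h4e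
  have hfix : Nat.card (pslFix ι x y) = e / 2 := by rw [card_pslFix hΦ hpair, gcd_eq_two hodd]
  refine exists_real_odd hi (fun u hu => isConj_of_orderOf_two h2 hi hu) ?_
  -- at most `e / 2 + 1` involutions commute with `i`
  have hle : (invol i).card ≤ e / 2 + 1 := by
    set P := Finset.univ.filter fun b : PSL => b ∈ pslPair ι x y with hP
    set A := Finset.univ.filter fun b : PSL => b ∈ pslFix ι x y with hA
    have hPc : P.card = e := by rw [hP, ← Fintype.card_subtype, ← Nat.card_eq_fintype_card]; exact hcard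
    have hAc : A.card = e / 2 := by rw [hA, ← Fintype.card_subtype, ← Nat.card_eq_fintype_card]; exact hfix
    have hAP : A ⊆ P := by
      intro b hb
      refine Finset.mem_filter.2 ⟨Finset.mem_univ _, ?_⟩
      have h := (Finset.mem_filter.1 hb).2
      exact Or.inl ⟨h.1, h.2⟩
    have hcyc := isCyclic_pslFix hΦ (ι := ι) hpair.1
    have h1 : ((invol i).filter (fun b => b ∈ pslFix ι x y)).card ≤ 1 := by
      refine Finset.card_le_one.2 fun a ha b hb => ?_
      obtain ⟨ha1, ha2⟩ := Finset.mem_filter.1 ha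
      obtain ⟨hb1, hb2⟩ := Finset.mem_filter.1 hb
      exact congrArg Subtype.val (eq_of_orderOf_two (a := (⟨a, ha2⟩ : pslFix ι x y)) (b := ⟨b, hb2⟩)
        (by rw [Subgroup.orderOf_mk]; exact (Finset.mem_filter.1 ha1).2.1)
        (by rw [Subgroup.orderOf_mk]; exact (Finset.mem_filter.1 hb1).2.1))
    have hsub2 : (invol i).filter (fun b => b ∉ pslFix ι x y) ⊆ P \ A := by
      intro b hb
      obtain ⟨hb1, hb2⟩ := Finset.mem_filter.1 hb
      refine Finset.mem_sdiff.2 ⟨Finset.mem_filter.2 ⟨Finset.mem_univ _, ?_⟩,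
        fun h => hb2 (Finset.mem_filter.1 h).2⟩
      rw [← hC]
      exact Subgroup.mem_centralizer_singleton_iff.2 (Finset.mem_filter.1 hb1).2.2
    have h2' := Finset.card_le_card hsub2
    rw [Finset.card_sdiff_of_subset hAP, hPc, hAc] at h2'
    rw [← Finset.card_filter_add_card_filter_not (fun b => b ∈ pslFix ι x y)]
    omega
  have hG := card_psl (F := F)
  rw [gcd_eq_two hodd] at hG
  have hmul := (Subgroup.centralizer ({i} : Set PSL)).card_mul_index
  rw [hC, hcard] at hmul
  rw [hC]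
  generalize (pslPair ι x y).index = J at hmul ⊢
  generalize Nat.card PSL = N at hG hmul
  subst hmul
  generalize (invol i).card = I at hle ⊢
  generalize hQ : Fintype.card F = Q at *
  rcases heq with ⟨h4, rfl⟩ | ⟨h4, rfl⟩
  · obtain ⟨m, rfl⟩ : ∃ m, Q = 8 * m + 5 := ⟨Q / 8, by omega⟩
    rw [show 8 * m + 5 - 1 = 8 * m + 4 by omega] at *
    have hI : I ≤ 4 * m + 3 := by omega
    have hJ : 2 * J = (8 * m + 6) * (8 * m + 5) :=
      Nat.eq_of_mul_eq_mul_left (show 0 < 8 * m + 4 by omega) (by linarith)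
    nlinarith
  · obtain ⟨m, rfl⟩ : ∃ m, Q = 8 * m + 11 := ⟨(Q - 11) / 8, by omega⟩
    have hI : I ≤ 4 * m + 7 := by omega
    have hJ : 2 * J = (8 * m + 11) * (8 * m + 10) :=
      Nat.eq_of_mul_eq_mul_left (show 0 < 8 * m + 12 by omega) (by
        rw [show 8 * m + 11 - 1 = 8 * m + 10 by omega] at hG
        linarith)
    nlinarith

end CfsgLib.RealEven
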